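import Cfsg.Agent.H559.Sd.Tools
import Cfsg.Agent.R01.Fi22Facts
import Cfsg.Agent.H636.LieTwoWitt

/-!
# S4579: `Elem` for `Fi22` (helper559, market task 3296)

The 3510 transpositions; the centralizer of one of them is a perfect double cover of `PSU(6, 2)`.
-/

set_option autoImplicit false

namespace Cfsg.Agent.H559.Sd

open Cfsg Subgroup Cfsg.Agent.H643.Sd

universe u

/-- the transpositions of a class of 3-transpositions -/
theorem tri_of_class {G : Type*} [Group G] {D : Set G} (h : IsThreeTranspositionClass D) : Tri D := by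
  obtain ⟨⟨h1, h2⟩, ⟨d, hd, hD⟩, -⟩ := h
  have hsq : ∀ a ∈ D, a * a = 1 := fun a ha => by
    rw [← pow_two, ← h1 a ha, pow_orderOf_eq_one]
  have hinv : ∀ a ∈ D, a⁻¹ = a := fun a ha => inv_eq_of_mul_eq_one_left (hsq a ha)
  refine ⟨hsq, ?_, ?_⟩
  · intro g a ha
    rw [hD] at ha ⊢
    exact IsConj.trans (show IsConj d a from ha) (isConj_iff.2 ⟨g, rfl⟩)
  · intro a ha b hb
    rcases h2 a ha b hb with h3 | h3
    · left
      have h4 : (a * b)⁻¹ = a * b := inv_eq_of_mul_eq_one_left (by rw [← pow_two, h3])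
      rw [mul_inv_rev, hinv a ha, hinv b hb] at h4
      exact h4.symm
    · right
      have h4 : (a * b * a) * (b * a * b) = 1 := by
        rw [← h3]; simp only [pow_succ, pow_zero, one_mul, mul_assoc]
      have h5 : (b * a * b)⁻¹ = b * a * b := by
        rw [mul_inv_rev, mul_inv_rev, hinv a ha, hinv b hb, mul_assoc]
      rw [← h5]
      exact eq_inv_of_mul_eq_one_left h4

namespace Fi22

open Cfsg.Agent.R01 Cfsg.Agent.Fischer

/-- the centralizer of a transposition -/
theorem elem_cent {F : Type} [Field F] [Fintype F] {hF : Fintype.card F = 2 ^ 2} {D : Set Spor.Fi22} {d : Spor.Fi22}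
    (h : Loc.LocAt hF D d) : Elem (centralizer ({d} : Set Spor.Fi22)) := by
  obtain ⟨π, lift, L, -⟩ := h
  have : Fact (Nat.Prime 2) := ⟨Nat.prime_two⟩
  have : CharP F 2 := charP_of_card_eq_prime_pow hF
  refine elem_of_ext L.ext L.perf fun P => ?_
  exact lin2_of_sq (Cfsg.Agent.H636.LieTwoWitt.sylEl_PSU hF (by norm_num) P)

theorem elem : Elem Spor.Fi22 := by
  have hT := Fi22Facts.isThreeTranspositionClass_T
  have hd := Fi22Facts.gen_mem .a
  refine elem_of_three (tri_of_class hT) hd ?_ hT.2.2 (n := 16) (m := 492567075) (k := 1755) ?_ (by decide) ?_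
    (by decide) (elem_cent (Fi22Facts.loc _ hd))
  · intro x hx
    exact isConj_iff.1 (show IsConj _ x from hx)
  · rw [Fi22Facts.ncard_T]
  · rw [Fi22Facts.card]
    norm_num

end Fi22

theorem elem_fi22 {G : Type u} [Group G] [Finite G] (h : Spor.IsoFi22 G) : Elem G := by
  obtain ⟨e⟩ := h
  exact Elem.congr Fi22.elem e.symm

end Cfsg.Agent.H559.Sd
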