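import Cfsg.Agent.H559.Sd.Fi24A

/-!
# S4579: `Elem` for `Fi24'` (helper559, market task 3296)

`P = R Q`, `Q` a Sylow 2-subgroup of the stabilizer of the pair `{D 0 0, D 3 0}` in `C(z)` which contains the involution
`v`: `|P| = 2²¹`, the subgroup `M` of the elements fixing `D 0 0` has order `2¹⁸`, it is a Sylow 2-subgroup of the
centralizer of two transpositions, and `P` is the product of `M` and the subgroup generated by `R`, `v`.
-/

set_option autoImplicit false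

namespace Cfsg.Agent.H559.Sd.Fi24

open Cfsg Cfsg.Spor Cfsg.Spor.Fi24 Subgroup Cfsg.Agent.H643.Sd Cfsg.Agent.H559.Sd
open Cfsg.Agent.Fischer.Fi24Rep (gen)
open Cfsg.Agent.R08.FiTwentyFour (L Cab finite_Fi24)
open Cfsg.Agent.R08.TetTwo (IsTet Mate)
open Cfsg.Agent.R08.TetThree (Pairs Q)
open Cfsg.Agent.R08.TetBig (orb)
open Cfsg.Agent.KFacts.FiTF.Defs Cfsg.Agent.KFacts.FiTF.Tet Cfsg.Agent.KFacts.FiTF.RQ
  Cfsg.Agent.KFacts.FiTF.QuasiA Cfsg.Agent.KFacts.FiTF.Pts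

/-- the stabilizer of the pair `{D 0 0, D 3 0}` -/
def H2 : Subgroup Spor.Fi24 := C1 ⊓ pairStab (D 0 0) (D 3 0)

theorem ne03 : D 0 0 ≠ D 3 0 := fun h =>
  y_ne_D (s := 0) (t := 3) (by norm_num) (by norm_num) (by norm_num) (k := 0) (by norm_num) h.symm

theorem card_H2 : Nat.card H2 = 2 ^ 17 * 27 := by
  obtain ⟨v, hv, -, hv1, hv2⟩ := exists_v
  have h1 := orb H2 (D 0 0) {D 0 0, D 3 0} (by
    intro y
    constructor
    · rintro (rfl | rfl)
      · exact ⟨1, one_mem _, by group⟩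
      · exact ⟨v, ⟨hv, Or.inr ⟨hv1, hv2⟩⟩, hv1⟩
    · rintro ⟨g, ⟨-, hg⟩, rfl⟩
      rcases hg with ⟨g1, -⟩ | ⟨g1, -⟩
      · exact Or.inl g1
      · exact Or.inr g1)
  have h2 : H2 ⊓ centralizer ({D 0 0} : Set Spor.Fi24) = C3 := by
    ext g
    rw [mem_inf, mem_centralizer_singleton_iff, mem_C3, mem_C2]
    constructor
    · rintro ⟨⟨h1, h2⟩, h3⟩
      refine ⟨⟨h1, h3⟩, ?_⟩
      rcases h2 with ⟨-, h4⟩ | ⟨h4, -⟩
      · exact mul_inv_eq_iff_eq_mul.1 h4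
      · exact absurd (h4.symm.trans (mul_inv_eq_iff_eq_mul.2 h3)) ne03.symm
    · rintro ⟨⟨h1, h3⟩, h4⟩
      exact ⟨⟨h1, Or.inl ⟨mul_inv_eq_iff_eq_mul.2 h3, mul_inv_eq_iff_eq_mul.2 h4⟩⟩, h3⟩
  rw [Set.ncard_pair ne03, h2, card_three] at h1
  rw [h1]
  norm_num

theorem R_two : IsPGroup 2 R := by
  rw [IsPGroup.iff_card]
  exact ⟨13, by rw [Cfsg.Agent.KFacts.FiTF.frame.cardR]; norm_num⟩

theorem R_le : R ≤ C1 := fun _ hr => mem_C1.2 ⟨E_le (R_le_E hr), R_z hr⟩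

theorem le_normalizer {W : Subgroup Spor.Fi24} (hW : W ≤ C1) : W ≤ normalizer (R : Set Spor.Fi24) := by
  intro g hg
  have h1 := (mem_C1.1 (hW hg)).2
  have h2 := (mem_C1.1 (hW (W.inv_mem hg))).2
  rw [mem_normalizer_iff]
  intro r
  constructor
  · intro hr
    exact norm Cfsg.Agent.KFacts.FiTF.FixZ.tran g h1 r hr
  · intro hr
    have h3 := norm Cfsg.Agent.KFacts.FiTF.FixZ.tran g⁻¹ h2 _ hr
    have e : g⁻¹ * (g * r * g⁻¹) * g⁻¹⁻¹ = r := by group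
    rwa [e] at h3

/-- homomorphisms are real on `R` -/
theorem sq_R {P : Subgroup Spor.Fi24} (hP : R ≤ P) (f : P →* ℂˣ) {r : Spor.Fi24} (hr : r ∈ R) :
    f ⟨r, hP hr⟩ ^ 2 = 1 := by
  have hQ : R = Q L z := R_eq_Q Cfsg.Agent.KFacts.FiTF.FixZ.tran
  have key : ∀ r ∈ Q L z, ∀ h : r ∈ P, f ⟨r, h⟩ ^ 2 = 1 := by
    intro r hr
    unfold Q at hr
    induction hr using closure_induction with
    | mem g hg =>
      intro h
      obtain ⟨e, f', hm, rfl⟩ := hg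
      obtain ⟨he, hf, hc, -⟩ := hm.mem
      refine sq_of_sq f ?_
      rw [pow_two]
      apply Subtype.ext
      show e * f' * (e * f') = 1
      have h1 : e * f' * (e * f') = (e * e) * (f' * f') := by
        calc e * f' * (e * f') = e * (f' * e) * f' := by group
          _ = e * (e * f') * f' := by rw [hc.eq]
          _ = (e * e) * (f' * f') := by group
      rw [h1, tri.sq e he, tri.sq f' hf, one_mul]
    | one =>
      intro h
      have : (⟨1, h⟩ : P) = 1 := rfl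
      rw [this, map_one, one_pow]
    | mul a b ha hb iha ihb =>
      intro h
      have hRa : a ∈ R := by rw [hQ]; exact ha
      have hRb : b ∈ R := by rw [hQ]; exact hb
      have : (⟨a * b, h⟩ : P) = ⟨a, hP hRa⟩ * ⟨b, hP hRb⟩ := rfl
      rw [this, map_mul, mul_pow, iha (hP hRa), ihb (hP hRb), one_mul]
    | inv a ha iha =>
      intro h
      have hRa : a ∈ R := by rw [hQ]; exact ha
      have : (⟨a⁻¹, h⟩ : P) = (⟨a, hP hRa⟩ : P)⁻¹ := rfl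
      rw [this, map_inv, inv_pow, iha (hP hRa), inv_one]
  exact key r (hQ ▸ hr) _

theorem main : ∃ P : Subgroup Spor.Fi24, P ≤ commutator Spor.Fi24 ∧ Nat.card P = 2 ^ 21 ∧ Lin2 P := by
  have : Fact (Nat.Prime 2) := ⟨Nat.prime_two⟩
  obtain ⟨v, hv, hvv, hv1, hv2⟩ := exists_v
  have hvz : IsPGroup 2 (zpowers v) := by
    rw [IsPGroup.iff_card]
    have h3 : orderOf v ∣ 2 := orderOf_dvd_of_pow_eq_one (by rw [pow_two, hvv])
    rcases (Nat.dvd_prime Nat.prime_two).1 h3 with h | h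
    · exact ⟨0, by rw [Nat.card_zpowers, h, pow_zero]⟩
    · exact ⟨1, by rw [Nat.card_zpowers, h, pow_one]⟩
  have hvH : zpowers v ≤ H2 := by
    rw [zpowers_le]
    exact ⟨hv, Or.inr ⟨hv1, hv2⟩⟩
  obtain ⟨Q', hQH, hvQ, hQp, hQc⟩ := exists_le hvH hvz card_H2 (by decide)
  have hQC : Q' ≤ C1 := fun g hg => (hQH hg).1
  have hPp : IsPGroup 2 (Q' ⊔ R : Subgroup Spor.Fi24) := hQp.to_sup_of_normal_right' R_two (le_normalizer hQC)
  set P : Subgroup Spor.Fi24 := Q' ⊔ R with hP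
  have hQP : Q' ≤ P := le_sup_left
  have hRP : R ≤ P := le_sup_right
  have hPC : P ≤ C1 := sup_le hQC R_le
  have hPK : P ≤ commutator Spor.Fi24 := fun g hg => (mem_C1.1 (hPC hg)).1
  have hvP : v ∈ P := hQP (hvQ (mem_zpowers v))
  -- elements moving `D 0 0`
  have hX : ∀ i, ∃ g, ∃ hg : g ∈ P, g * D 0 0 * g⁻¹ = oct i ∧ ∀ f : P →* ℂˣ, f ⟨g, hg⟩ ^ 2 = 1 := by
    rintro ⟨s, k⟩
    by_cases hs : s = 0
    · obtain ⟨r, hr, h1⟩ := exists_r0 k.2
      refine ⟨r, hRP hr, ?_, fun f => sq_R hRP f hr⟩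
      rw [h1]
      simp [oct, hs]
    · obtain ⟨r, hr, h1, -⟩ := exists_r3 k.2
      refine ⟨r * v, P.mul_mem (hRP hr) hvP, ?_, fun f => ?_⟩
      · have e : r * v * D 0 0 * (r * v)⁻¹ = r * (v * D 0 0 * v⁻¹) * r⁻¹ := by group
        rw [e, hv1, h1]
        simp [oct, hs]
      · have e : (⟨r * v, P.mul_mem (hRP hr) hvP⟩ : P) = ⟨r, hRP hr⟩ * ⟨v, hvP⟩ := rfl
        have h2 : f ⟨v, hvP⟩ ^ 2 = 1 := sq_of_sq f (by
          rw [pow_two]
          exact Subtype.ext hvv)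
        rw [e, map_mul, mul_pow, sq_R hRP f hr, h2, one_mul]
  set O1 : Set Spor.Fi24 := {y | ∃ g ∈ P, g * D 0 0 * g⁻¹ = y} with hO1
  have hsub : Set.range oct ⊆ O1 := by
    rintro _ ⟨i, rfl⟩
    obtain ⟨g, hg, h1, -⟩ := hX i
    exact ⟨g, hg, h1⟩
  have h8 : 8 ≤ O1.ncard := by
    rw [← ncard_oct]
    exact Set.ncard_le_ncard hsub (Set.toFinite _)
  set M : Subgroup Spor.Fi24 := P ⊓ centralizer ({D 0 0} : Set Spor.Fi24) with hM
  have hPM : Nat.card P = O1.ncard * Nat.card M := orb P (D 0 0) O1 (fun y => Iff.rfl)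
  -- the order of `M`
  have hM1 : 2 ^ 16 ≤ Nat.card ↥(M ⊓ centralizer ({D 3 0} : Set Spor.Fi24)) := by
    have h1 := orb Q' (D 0 0) {y | ∃ g ∈ Q', g * D 0 0 * g⁻¹ = y} (fun y => Iff.rfl)
    have h2 : {y | ∃ g ∈ Q', g * D 0 0 * g⁻¹ = y}.ncard ≤ 2 := by
      rw [← Set.ncard_pair ne03]
      refine Set.ncard_le_ncard ?_ (Set.toFinite _)
      rintro _ ⟨g, hg, rfl⟩
      rcases (hQH hg).2 with ⟨g1, -⟩ | ⟨g1, -⟩
      · exact Or.inl g1
      · exact Or.inr g1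
    have h3 : Q' ⊓ centralizer ({D 0 0} : Set Spor.Fi24) ≤ M ⊓ centralizer ({D 3 0} : Set Spor.Fi24) := by
      rintro g ⟨hg, hgc⟩
      refine ⟨⟨hQP hg, hgc⟩, ?_⟩
      have h4 := mem_centralizer_singleton_iff.1 hgc
      refine mem_centralizer_singleton_iff.2 ?_
      rcases (hQH hg).2 with ⟨-, g2⟩ | ⟨g1, -⟩
      · exact mul_inv_eq_iff_eq_mul.1 g2
      · exact absurd (g1.symm.trans (mul_inv_eq_iff_eq_mul.2 h4)) ne03.symm
    have h4 : Nat.card ↥(Q' ⊓ centralizer ({D 0 0} : Set Spor.Fi24)) ≤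
        Nat.card ↥(M ⊓ centralizer ({D 3 0} : Set Spor.Fi24)) :=
      Nat.le_of_dvd Nat.card_pos (card_dvd_of_le h3)
    rw [hQc] at h1
    have h5 : 2 ^ 17 ≤ 2 * Nat.card ↥(Q' ⊓ centralizer ({D 0 0} : Set Spor.Fi24)) := by
      rw [h1]
      exact Nat.mul_le_mul_right _ h2
    omega
  have hM2 : 2 ^ 18 ≤ Nat.card M := by
    have h1 := orb M (D 3 0) {y | ∃ g ∈ M, g * D 3 0 * g⁻¹ = y} (fun y => Iff.rfl)
    have h2 : 4 ≤ {y | ∃ g ∈ M, g * D 3 0 * g⁻¹ = y}.ncard := by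
      rw [← ncard_tet3]
      refine Set.ncard_le_ncard ?_ (Set.toFinite _)
      rintro _ ⟨k, rfl⟩
      obtain ⟨r, hr, h3, h4⟩ := exists_r3 k.2
      exact ⟨r, ⟨hRP hr, mem_centralizer_singleton_iff.2 (mul_inv_eq_iff_eq_mul.1 h4)⟩, h3⟩
    rw [h1]
    calc 2 ^ 18 = 4 * 2 ^ 16 := by norm_num
      _ ≤ _ := Nat.mul_le_mul h2 hM1
  -- `M` fixes a further member of the tetrad
  have hMp : IsPGroup 2 M := hPp.to_le inf_le_left
  have hT := isTet (t := 0) (by norm_num)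
  obtain ⟨b, hb, hbf⟩ := exists_fixed hMp (X := {D 0 1, D 0 2, D 0 3}) (by
      rw [Set.ncard_eq_three.2 ⟨_, _, _, hT.nbc, hT.nbd, hT.ncd, rfl⟩]; decide) (by
    rintro g ⟨hg, hgc⟩ y hy
    have hgz : Commute g z := (mem_C1.1 (hPC hg)).2
    have h0 : g * D 0 0 * g⁻¹ = D 0 0 := mul_inv_eq_iff_eq_mul.2 (mem_centralizer_singleton_iff.1 hgc)
    have hy' : Mate L z (D 0 0) y := by
      rcases hy with rfl | rfl | rfl
      · exact ⟨_, _, hT⟩
      · exact ⟨_, _, hT.sw23⟩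
      · exact ⟨_, _, hT.sw24⟩
    have h2 := hy'.conj Cfsg.Agent.KFacts.FiTF.Tet.tr hgz
    rw [h0] at h2
    exact hT.mate_cases Cfsg.Agent.KFacts.FiTF.Tet.tr h2)
  have hbm : Mate L z (D 0 0) b := by
    rcases hb with rfl | rfl | rfl
    · exact ⟨_, _, hT⟩
    · exact ⟨_, _, hT.sw23⟩
    · exact ⟨_, _, hT.sw24⟩
  obtain ⟨ha, hbL, hab, hne⟩ := hbm.mem
  have hMC : M ≤ Cab (D 0 0) b := by
    rintro g ⟨hg, hgc⟩
    refine ⟨hPK hg, mem_centralizer_iff.2 ?_⟩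
    intro y hy
    rcases hy with rfl | hy
    · exact (mem_centralizer_singleton_iff.1 hgc).symm
    · have hy : y = b := hy
      subst hy
      exact (mul_inv_eq_iff_eq_mul.1 (hbf g ⟨hg, hgc⟩)).symm
  have hc := card_Cab ha hbL hne hab
  have hL : Lin2 M := lin2_of_le hMC (elem_Cab ha hbL hne hab) hMp hc (by decide) hM2
  have hM3 : Nat.card M = 2 ^ 18 :=
    le_antisymm (Nat.le_of_dvd (by positivity) (card_dvd hMC hMp hc (by decide))) hM2
  have hPd : Nat.card P ∣ 2 ^ 21 := card_dvd hPK hPp card_K (by decide)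
  have hPl := Nat.le_of_dvd (by positivity) hPd
  rw [hPM, hM3] at hPl
  have h9 : O1.ncard = 8 := by omega
  have hO : Set.range oct = O1 :=
    Set.eq_of_subset_of_ncard_le hsub (by rw [h9, ncard_oct]) (Set.toFinite _)
  refine ⟨P, hPK, by rw [hPM, hM3, h9]; norm_num, fun f x => ?_⟩
  have hx : (x : Spor.Fi24) * D 0 0 * (x : Spor.Fi24)⁻¹ ∈ O1 := ⟨x, x.2, rfl⟩
  rw [← hO] at hx
  obtain ⟨i, hi⟩ := hx
  obtain ⟨g, hg, h1, h2⟩ := hX i
  rw [hi] at h1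
  have h3 : g⁻¹ * x ∈ M := by
    refine ⟨P.mul_mem (P.inv_mem hg) x.2, mem_centralizer_singleton_iff.2 ?_⟩
    rw [← mul_inv_eq_iff_eq_mul]
    calc g⁻¹ * (x : Spor.Fi24) * D 0 0 * (g⁻¹ * x)⁻¹ = g⁻¹ * (x * D 0 0 * (x : Spor.Fi24)⁻¹) * g := by group
      _ = g⁻¹ * (g * D 0 0 * g⁻¹) * g := by rw [h1]
      _ = D 0 0 := by group
  have h4 := hL (f.comp (inclusion (inf_le_left : M ≤ P))) ⟨_, h3⟩
  have e : x = ⟨g, hg⟩ * inclusion (inf_le_left : M ≤ P) ⟨_, h3⟩ := by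
    apply Subtype.ext
    show (x : Spor.Fi24) = g * (g⁻¹ * x)
    group
  rw [e, map_mul, mul_pow, h2 f, one_mul]
  exact h4

end Cfsg.Agent.H559.Sd.Fi24

namespace Cfsg.Agent.H559.Sd

open Cfsg Subgroup Cfsg.Agent.H643.Sd

universe u

theorem elem_commutator_fi24 : Elem (commutator Spor.Fi24) := by
  obtain ⟨P, hP, hc, hL⟩ := Fi24.main
  exact elem_of_le hP hL Fi24.card_K (by decide) hc

theorem elem_fi24 {G : Type u} [Group G] [Finite G] (h : Spor.IsoFi24' G) : Elem G := by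
  obtain ⟨e⟩ := h
  exact Elem.congr elem_commutator_fi24 e.symm

end Cfsg.Agent.H559.Sd
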