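import Cfsg.Agent.H559.Sd.Fi22
import Cfsg.Agent.KFacts.FiTF.SubOrb
import Cfsg.Agent.KFacts.FiTF.FrameF

/-!
# S4579: `Fi24'`, the octad of the tetrads `0` and `3` of `z` (helper559, market task 3296)

* `elem_Cab` : the centralizer of two commuting transpositions;
* `card_two` : the order of the centralizer of `z`, `D 0 0`, `D 3 0` in `Fi24'`;
* `exists_r` : the action of `R` on the two tetrads;
* `exists_v` : an involution which interchanges `D 0 0` and `D 3 0`.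
-/

set_option autoImplicit false

namespace Cfsg.Agent.H559.Sd.Fi24

open Cfsg Cfsg.Spor Cfsg.Spor.Fi24 Subgroup Cfsg.Agent.H643.Sd Cfsg.Agent.H559.Sd
open Cfsg.Agent.Fischer.Fi24Rep (gen)
open Cfsg.Agent.R08.FiTwentyFour (L Cab finite_Fi24)
open Cfsg.Agent.R08.TetTwo (IsTet Mate)
open Cfsg.Agent.R08.TetBig (orb)
open Cfsg.Agent.KFacts.FiTF.Defs Cfsg.Agent.KFacts.FiTF.Tet Cfsg.Agent.KFacts.FiTF.RQ
  Cfsg.Agent.KFacts.FiTF.QuasiA Cfsg.Agent.KFacts.FiTF.Pts
open Cfsg.Agent.KFacts.FiTF.Om (S)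

instance inst_finite : Finite Spor.Fi24 := finite_Fi24

theorem tri : Tri L := tri_of_class Cfsg.Agent.R08.FiTwentyFour.isThreeTranspositionClass

theorem card_K : Nat.card (commutator Spor.Fi24) = 2 ^ 21 * 598528723330813275 := by
  rw [Cfsg.Agent.R08.FiTwentyFour.card_commutator]
  norm_num

/-! ### The centralizer of two commuting transpositions -/

theorem card_Cab {a b : Spor.Fi24} (ha : a ∈ L) (hb : b ∈ L) (hne : a ≠ b) (hab : Commute a b) :
    Nat.card (Cab a b) = 2 ^ 18 * 492567075 := by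
  obtain ⟨π, z, -, hL⟩ := Cfsg.Agent.R08.FiTwentyFour.lifted ha hb hne hab
  have h1 : Nat.card π.ker = 2 := by
    have h2 : (π.ker : Set (Cab a b)) = {1, z} := by
      ext x
      rw [SetLike.mem_coe, MonoidHom.mem_ker, hL.ext.ker]
      rfl
    have h3 : Nat.card π.ker = (π.ker : Set (Cab a b)).ncard := (Nat.card_coe_set_eq _)
    rw [h3, h2, Set.ncard_pair hL.ext.zne.symm]
  have h2 := Subgroup.card_eq_card_quotient_mul_card_subgroup π.ker
  rw [h1, Nat.card_congr (QuotientGroup.quotientKerEquivOfSurjective π hL.ext.surj).toEquiv,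
    Cfsg.Agent.R01.Fi22Facts.card] at h2
  rw [h2]
  norm_num

theorem elem_Cab {a b : Spor.Fi24} (ha : a ∈ L) (hb : b ∈ L) (hne : a ≠ b) (hab : Commute a b) :
    Elem (Cab a b) := by
  obtain ⟨π, z, -, hL⟩ := Cfsg.Agent.R08.FiTwentyFour.lifted ha hb hne hab
  exact elem_of_ext hL.ext (Cfsg.Agent.R08.FiTwentyFour.perfect ha hb hne hab) Fi22.elem

/-! ### Orders -/

/-- `C(z)`, `C(z, l)` in `Fi24'` -/
def C1 : Subgroup Spor.Fi24 := commutator Spor.Fi24 ⊓ centralizer ({z} : Set Spor.Fi24)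

def C2 : Subgroup Spor.Fi24 := C1 ⊓ centralizer ({D 0 0} : Set Spor.Fi24)

def C3 : Subgroup Spor.Fi24 := C2 ⊓ centralizer ({D 3 0} : Set Spor.Fi24)

theorem mem_C1 {g : Spor.Fi24} : g ∈ C1 ↔ g ∈ commutator Spor.Fi24 ∧ g * z = z * g := by
  rw [C1, mem_inf, mem_centralizer_singleton_iff]

theorem mem_C2 {g : Spor.Fi24} : g ∈ C2 ↔ g ∈ C1 ∧ g * D 0 0 = D 0 0 * g := by
  rw [C2, mem_inf, mem_centralizer_singleton_iff]

theorem mem_C3 {g : Spor.Fi24} : g ∈ C3 ↔ g ∈ C2 ∧ g * D 3 0 = D 3 0 * g := by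
  rw [C3, mem_inf, mem_centralizer_singleton_iff]

/-- correct the parity -/
theorem fix_parity {w d : Spor.Fi24} (hw : w * z = z * w) (hl : w * gen .l = gen .l * w) (hd : d * gen .l = gen .l * d) :
    ∃ g ∈ C1, g * gen .l = gen .l * g ∧ g * d * g⁻¹ = w * d * w⁻¹ := by
  by_cases hK : w ∈ commutator Spor.Fi24
  · exact ⟨w, mem_C1.2 ⟨hK, hw⟩, hl, rfl⟩
  · have hlK : gen .l ∉ commutator Spor.Fi24 := Cfsg.Agent.R08.FiTwentyFour.odd l_mem.1
    have h1 : w * gen .l ∈ commutator Spor.Fi24 :=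
      (mul_mem_iff_of_index_two Cfsg.Agent.R08.FiTwentyFour.index_commutator).2
        ⟨fun h => absurd h hK, fun h => absurd h hlK⟩
    refine ⟨w * gen .l, mem_C1.2 ⟨h1, ?_⟩, ?_, ?_⟩
    · rw [mul_assoc, l_mem.2, ← mul_assoc, hw, mul_assoc]
    · rw [hl]
      rw [mul_assoc, hl]
    · calc w * gen .l * d * (w * gen .l)⁻¹ = w * (gen .l * d * (gen .l)⁻¹) * w⁻¹ := by group
        _ = w * d * w⁻¹ := by rw [← hd, mul_inv_cancel_right]

theorem card_C1 : Nat.card (centralizer ({z} : Set Spor.Fi24)) = 2 * Nat.card C1 := by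
  have h2 : (commutator Spor.Fi24).relIndex (centralizer ({z} : Set Spor.Fi24)) = 2 := by
    have h3 : (commutator Spor.Fi24).relIndex (centralizer ({z} : Set Spor.Fi24)) ∣ 2 := by
      rw [← Cfsg.Agent.R08.FiTwentyFour.index_commutator]
      exact Subgroup.relIndex_dvd_index_of_normal _ _
    rcases (Nat.dvd_prime Nat.prime_two).1 h3 with h4 | h4
    · exfalso
      rw [Subgroup.relIndex_eq_one] at h4
      exact Cfsg.Agent.R08.FiTwentyFour.odd l_mem.1 (h4 (mem_centralizer_singleton_iff.2 l_mem.2))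
    · exact h4
  rw [← h2, Subgroup.relIndex, C1, ← Subgroup.inf_subgroupOf_right]
  rw [← Nat.card_congr (Subgroup.subgroupOfEquivOfLe
    (inf_le_right : commutator Spor.Fi24 ⊓ centralizer ({z} : Set Spor.Fi24) ≤ _)).toEquiv,
    Subgroup.index_mul_card]

theorem card_C2 : Nat.card C1 = 504 * Nat.card C2 := by
  rw [orb C1 (D 0 0) Dz ?_, Cfsg.Agent.KFacts.FiTF.FixZ.ncard_Dz]
  · rfl
  · intro y
    constructor
    · intro hy
      obtain ⟨w, hw, h1⟩ := Cfsg.Agent.KFacts.FiTF.FixZ.tran y hy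
      have hwz := closure_z (W_le hw)
      by_cases hK : w ∈ commutator Spor.Fi24
      · exact ⟨w, mem_C1.2 ⟨hK, hwz⟩, by rw [D00]; exact h1⟩
      · have hlK : gen .l ∉ commutator Spor.Fi24 := Cfsg.Agent.R08.FiTwentyFour.odd l_mem.1
        have h2 : w * gen .l ∈ commutator Spor.Fi24 :=
          (mul_mem_iff_of_index_two Cfsg.Agent.R08.FiTwentyFour.index_commutator).2
            ⟨fun h => absurd h hK, fun h => absurd h hlK⟩
        refine ⟨w * gen .l, mem_C1.2 ⟨h2, by rw [mul_assoc, l_mem.2, ← mul_assoc, hwz, mul_assoc]⟩, ?_⟩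
        rw [D00, ← h1]; group
    · rintro ⟨g, hg, rfl⟩
      exact conj_Dz (mem_C1.1 hg).2 (D_mem_Dz (by norm_num) (by norm_num))

/-- the transpositions commuting with `z` and `l` outside the tetrad of `l` -/
def Y : Set Spor.Fi24 := {d | d ∈ Dz ∧ d * gen .l = gen .l * d ∧ ∀ i < 4, d ≠ D 0 i}

theorem mate0 {i : ℕ} (hi : i < 4) (h0 : i ≠ 0) : Mate L z (D 0 0) (D 0 i) := by
  have h := isTet (t := 0) (by norm_num)
  interval_cases i
  · exact absurd rfl h0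
  · exact ⟨_, _, h⟩
  · exact ⟨_, _, h.sw23⟩
  · exact ⟨_, _, h.sw24⟩

theorem comm30 : D 3 0 * gen .l = gen .l * D 3 0 := by
  rw [← D00]
  exact y_comm (s := 0) (t := 3) (by norm_num) (by decide)

theorem conj_Y {w : Spor.Fi24} (hz : w * z = z * w) (hl : w * gen .l = gen .l * w) : w * D 3 0 * w⁻¹ ∈ Y := by
  refine ⟨conj_Dz hz (D_mem_Dz (by norm_num) (by norm_num)), ?_, ?_⟩
  · have h1 : w * gen .l * w⁻¹ = gen .l := mul_inv_eq_iff_eq_mul.2 hl
    calc w * D 3 0 * w⁻¹ * gen .l = w * D 3 0 * w⁻¹ * (w * gen .l * w⁻¹) := by rw [h1]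
      _ = w * (D 3 0 * gen .l) * w⁻¹ := by group
      _ = w * gen .l * w⁻¹ * (w * D 3 0 * w⁻¹) := by rw [comm30]; group
      _ = gen .l * (w * D 3 0 * w⁻¹) := by rw [h1]
  · intro i hi h1
    have hw : Commute w z := hz
    have h2 : w⁻¹ * D 0 0 * w⁻¹⁻¹ = D 0 0 := by
      rw [D00]
      have h3 : Commute w (gen .l) := hl
      exact mul_inv_eq_iff_eq_mul.2 h3.inv_left.eq
    have h4 : D 3 0 = w⁻¹ * D 0 i * w⁻¹⁻¹ := by rw [← h1]; group
    by_cases h0 : i = 0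
    · rw [h0, h2] at h4
      exact y_ne_D (s := 0) (t := 3) (by norm_num) (by norm_num) (by norm_num) (k := 0) (by norm_num) h4
    · have h5 := (mate0 hi h0).conj Cfsg.Agent.KFacts.FiTF.Tet.tr hw.inv_left
      rw [h2, ← h4] at h5
      exact not_mate (s := 0) (t := 3) (by norm_num) (by norm_num) (by norm_num) h5

theorem ncard_Y : Y.ncard = 180 := by
  rw [← Cfsg.Agent.KFacts.FiTF.SubOrb.ncard_F2]
  refine Set.ncard_congr (fun d _ => Cfsg.Agent.KFacts.FiTF.FixZ.pt d) ?_ ?_ ?_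
  · rintro d ⟨hd, hl, h4⟩
    have hp := Cfsg.Agent.KFacts.FiTF.FixZ.pt_spec hd.1
    rcases Cfsg.Agent.KFacts.FiTF.SubOrb.cases hp hd with h1 | h1 | h1
    · exact absurd hl h1.2
    · exact h1.1
    · exfalso
      have h3 := isPt (t := 0) (i := Cfsg.Agent.KFacts.FiTF.FixZ.pt d) (by norm_num) h1.1
      have h5 : P 0 (Cfsg.Agent.KFacts.FiTF.FixZ.pt d) = Cfsg.Agent.KFacts.FiTF.FixZ.pt d := by
        have h6 := h1.1
        interval_cases (Cfsg.Agent.KFacts.FiTF.FixZ.pt d) <;> rfl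
      rw [h5] at h3
      exact h4 _ h1.1 (IsPt.inj hp h3)
  · intro d d' hd hd' h
    have h1 := Cfsg.Agent.KFacts.FiTF.FixZ.pt_spec hd.1.1
    rw [show Cfsg.Agent.KFacts.FiTF.FixZ.pt d = Cfsg.Agent.KFacts.FiTF.FixZ.pt d' from h] at h1
    exact h1.inj (Cfsg.Agent.KFacts.FiTF.FixZ.pt_spec hd'.1.1)
  · intro p hp
    have h3 : IsPt (D 3 0) 136 := isPt (t := 3) (i := 0) (by norm_num) (by norm_num)
    have hp' : p ∈ {p : ℕ | ∃ x ∈ Subgroup.closure Cfsg.Agent.KFacts.FiTF.SubOrb.S6,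
        Cfsg.Agent.Fischer.Fi24Rep.rho x 136 = p} := by
      rw [Cfsg.Agent.KFacts.FiTF.SubOrb.orb2]
      exact hp
    obtain ⟨w, hw, hw'⟩ := hp'
    have hW := Cfsg.Agent.KFacts.FiTF.SubOrb.S6_le hw
    have hpt : IsPt (w * D 3 0 * w⁻¹) p := h3.conj' hw'
    have hz := Cfsg.Agent.KFacts.FiTF.SubOrb.W1_z hW
    have hl := Cfsg.Agent.KFacts.FiTF.SubOrb.W1_l hW
    have hY : w * D 3 0 * w⁻¹ ∈ Y := conj_Y hz hl
    exact ⟨_, hY, (Cfsg.Agent.KFacts.FiTF.FixZ.pt_spec hY.1.1).uniq hpt⟩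

theorem card_C3 : Nat.card C2 = 180 * Nat.card C3 := by
  rw [orb C2 (D 3 0) Y ?_, ncard_Y]
  · rfl
  · intro y
    constructor
    · rintro ⟨hy, hl, h4⟩
      obtain ⟨w, hW, h1⟩ := Cfsg.Agent.KFacts.FiTF.SubOrb.T2 y hy hl (h4 0 (by norm_num)) (h4 1 (by norm_num))
        (h4 2 (by norm_num)) (h4 3 (by norm_num))
      obtain ⟨g, hg, hgl, hgd⟩ := fix_parity (Cfsg.Agent.KFacts.FiTF.SubOrb.W1_z hW)
        (Cfsg.Agent.KFacts.FiTF.SubOrb.W1_l hW) comm30
      exact ⟨g, mem_C2.2 ⟨hg, by rw [D00]; exact hgl⟩, hgd.trans h1⟩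
    · rintro ⟨g, hg, rfl⟩
      obtain ⟨hg1, hg2⟩ := mem_C2.1 hg
      rw [D00] at hg2
      exact conj_Y (mem_C1.1 hg1).2 hg2

theorem card_three : Nat.card C3 = 2 ^ 16 * 27 := by
  have h1 := card_C1
  rw [Cfsg.Agent.KFacts.FiTF.Order.card, card_C2, card_C3] at h1
  norm_num
  omega

/-! ### `R` on the tetrads `0` and `3` -/

theorem mv_t {t j : ℕ} (ht : t < 6) (hj : j + 1 < 12) (h1 : S j t = 1) (h2 : S (j + 1) t = 2) :
    ∀ k < 4, ∃ r ∈ R, r * D t 0 * r⁻¹ = D t k ∧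
      ∀ t' < 6, S j t' = 0 → S (j + 1) t' = 0 → r * D t' 0 * r⁻¹ = D t' 0 := by
  have e1 := conj_x (j := j) (t := t) (k := 0) (by omega) ht (by norm_num)
  have e2 := conj_x (j := j + 1) (t := t) (k := 0) hj ht (by norm_num)
  have e3 := conj_x (j := j + 1) (t := t) (k := 1) hj ht (by norm_num)
  rw [h1] at e1
  rw [h2] at e2 e3
  change x j * D t 0 * (x j)⁻¹ = D t 1 at e1
  change x (j + 1) * D t 0 * (x (j + 1))⁻¹ = D t 2 at e2
  change x (j + 1) * D t 1 * (x (j + 1))⁻¹ = D t 3 at e3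
  have f1 : ∀ t' < 6, S j t' = 0 → x j * D t' 0 * (x j)⁻¹ = D t' 0 := by
    intro t' ht' h0
    have h := conj_x (j := j) (t := t') (k := 0) (by omega) ht' (by norm_num)
    rw [h0] at h
    exact h
  have f2 : ∀ t' < 6, S (j + 1) t' = 0 → x (j + 1) * D t' 0 * (x (j + 1))⁻¹ = D t' 0 := by
    intro t' ht' h0
    have h := conj_x (j := j + 1) (t := t') (k := 0) hj ht' (by norm_num)
    rw [h0] at h
    exact h
  intro k hk
  interval_cases k
  · exact ⟨1, R.one_mem, by group, fun t' _ _ _ => by group⟩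
  · exact ⟨x j, x_mem (by omega), e1, fun t' ht' h0 _ => f1 t' ht' h0⟩
  · exact ⟨x (j + 1), x_mem hj, e2, fun t' ht' _ h0 => f2 t' ht' h0⟩
  · refine ⟨x (j + 1) * x j, R.mul_mem (x_mem hj) (x_mem (by omega)), ?_, fun t' ht' h0 h0' => ?_⟩
    · rw [← e3, ← e1]; group
    · have e : x (j + 1) * x j * D t' 0 * (x (j + 1) * x j)⁻¹ =
          x (j + 1) * (x j * D t' 0 * (x j)⁻¹) * (x (j + 1))⁻¹ := by group
      rw [e, f1 t' ht' h0, f2 t' ht' h0']

/-- `R` on the tetrad `0` -/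
theorem exists_r0 {k : ℕ} (hk : k < 4) : ∃ r ∈ R, r * D 0 0 * r⁻¹ = D 0 k := by
  obtain ⟨r, hr, h1, -⟩ := mv_t (t := 0) (j := 2) (by norm_num) (by norm_num) (by decide) (by decide) k hk
  exact ⟨r, hr, h1⟩

/-- the stabilizer of `D 0 0` in `R` on the tetrad `3` -/
theorem exists_r3 {k : ℕ} (hk : k < 4) : ∃ r ∈ R, r * D 3 0 * r⁻¹ = D 3 k ∧ r * D 0 0 * r⁻¹ = D 0 0 := by
  obtain ⟨r, hr, h1, h2⟩ := mv_t (t := 3) (j := 4) (by norm_num) (by norm_num) (by decide) (by decide) k hk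
  exact ⟨r, hr, h1, h2 0 (by norm_num) (by decide) (by decide)⟩

/-! ### The involution -/

theorem exists_v : ∃ v ∈ C1, v * v = 1 ∧ v * D 0 0 * v⁻¹ = D 3 0 ∧ v * D 3 0 * v⁻¹ = D 0 0 := by
  have m0 : D 0 0 ∈ L := D_mem (by norm_num) (by norm_num)
  have m1 : D 1 0 ∈ L := D_mem (by norm_num) (by norm_num)
  have m2 : D 2 0 ∈ L := D_mem (by norm_num) (by norm_num)
  have m3 : D 3 0 ∈ L := D_mem (by norm_num) (by norm_num)
  have n10 : ¬ Commute (D 1 0) (D 0 0) := y_ncomm (t := 1) (by norm_num) (by norm_num)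
  have n21 : ¬ Commute (D 2 0) (D 1 0) := y_ncomm (t := 2) (by norm_num) (by norm_num)
  have n32 : ¬ Commute (D 3 0) (D 2 0) := y_ncomm (t := 3) (by norm_num) (by norm_num)
  have c30 : Commute (D 3 0) (D 0 0) := y_comm (s := 0) (t := 3) (by norm_num) (by decide)
  have c20 : Commute (D 2 0) (D 0 0) := y_comm (s := 0) (t := 2) (by norm_num) (by decide)
  have c13 : Commute (D 1 0) (D 3 0) := y_comm (s := 3) (t := 1) (by norm_num) (by decide)
  have hw : D 1 0 * D 2 0 * D 1 0 ∈ L := tri.cj m1 m2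
  have hw0 : ¬ Commute (D 1 0 * D 2 0 * D 1 0) (D 0 0) := by
    intro h
    rw [← tri.braid m2 m1 n21] at h
    exact n10 (tri.comm_cj m2 c20 h)
  have hw3 : ¬ Commute (D 1 0 * D 2 0 * D 1 0) (D 3 0) := by
    intro h
    exact n32 (tri.comm_cj m1 c13 h).symm
  obtain ⟨h1, h2, h3⟩ := tri.swap m0 m3 hw c30.symm hw0 hw3
  refine ⟨_, mem_C1.2 ⟨?_, ?_⟩, h1, h2, h3⟩
  · have e : D 1 0 * D 2 0 * D 1 0 * (D 0 0 * D 3 0) * (D 1 0 * D 2 0 * D 1 0) =
        D 1 0 * D 2 0 * (D 1 0 * D 0 0) * (D 3 0 * (D 1 0 * D 2 0 * D 1 0)) := by group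
    rw [e]
    exact mul_mem (mul_mem (Cfsg.Agent.R08.FiTwentyFour.even m1 m2) (Cfsg.Agent.R08.FiTwentyFour.even m1 m0))
      (Cfsg.Agent.R08.FiTwentyFour.even m3 hw)
  · have z0 : Commute (D 0 0) z := (z_D (t := 0) (i := 0) (by norm_num) (by norm_num)).symm
    have z1 : Commute (D 1 0) z := (z_D (t := 1) (i := 0) (by norm_num) (by norm_num)).symm
    have z2 : Commute (D 2 0) z := (z_D (t := 2) (i := 0) (by norm_num) (by norm_num)).symm
    have z3 : Commute (D 3 0) z := (z_D (t := 3) (i := 0) (by norm_num) (by norm_num)).symm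
    exact ((((z1.mul_left z2).mul_left z1).mul_left (z0.mul_left z3)).mul_left ((z1.mul_left z2).mul_left z1)).eq

/-! ### The octad -/

/-- the eight transpositions -/
def oct (i : Fin 2 × Fin 4) : Spor.Fi24 := D (if i.1 = 0 then 0 else 3) i.2

theorem oct_injective : Function.Injective oct := by
  have key : ∀ i : Fin 2 × Fin 4, IsPt (oct i) (P (if i.1 = 0 then 0 else 3) i.2) := by
    intro i
    unfold oct
    split_ifs
    · exact isPt (by norm_num) i.2.2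
    · exact isPt (by norm_num) i.2.2
  have key2 : ∀ i j : Fin 2 × Fin 4, P (if i.1 = 0 then 0 else 3) i.2 = P (if j.1 = 0 then 0 else 3) j.2 → i = j := by
    decide
  intro i j h
  have h1 := key i
  rw [h] at h1
  exact key2 i j (h1.uniq (key j))

theorem ncard_oct : (Set.range oct).ncard = 8 := by
  rw [← Nat.card_coe_set_eq, Nat.card_range_of_injective oct_injective, Nat.card_eq_fintype_card]
  rfl

/-- the tetrad `3` -/
def tet3 (i : Fin 4) : Spor.Fi24 := D 3 i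

theorem ncard_tet3 : (Set.range tet3).ncard = 4 := by
  have h1 : Function.Injective tet3 := fun i j h => by
    have h2 : oct (1, i) = oct (1, j) := h
    exact (Prod.mk.inj (oct_injective h2)).2
  rw [← Nat.card_coe_set_eq, Nat.card_range_of_injective h1, Nat.card_eq_fintype_card]
  rfl

end Cfsg.Agent.H559.Sd.Fi24
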