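import Cfsg.Agent.H643.Sd.Basic
import Cfsg.Agent.R08.TetBig
import Cfsg.Agent.R01.Lifts

/-!
# S4579, the Fischer groups: tools (helper559, market task 3296)

* `elem_of_ext` : perfect double covers;
* `lin2_of_le` : a 2-subgroup of maximal order;
* `elem_swap` : a subgroup of index 2 and an involution outside;
* `elem_of_three` : a class of `2 mod 4` 3-transpositions.
-/

set_option autoImplicit false
set_option linter.unusedSectionVars false

namespace Cfsg.Agent.H559.Sd

open Subgroup Cfsg.Agent.H643.Sd Cfsg.Agent.R08.TetBig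

/-! ### Double covers -/

/-- central extensions with kernel `{1, z}` -/
theorem elem_of_ext {C U : Type*} [Group C] [Group U] [Finite C] {π : C →* U} {z : C}
    (h : Cfsg.Agent.R01.Lifts.Ext π z) (hp : commutator C = ⊤) (hU : Elem U) : Elem C := by
  have : Finite U := Finite.of_surjective π h.surj
  refine elem_of_central hp π.ker ?_ ?_
  · intro x hx
    rw [mem_center_iff]
    intro g
    rcases (h.ker x).1 hx with rfl | rfl
    · rw [mul_one, one_mul]
    · exact h.comm g
  · exact Elem.congr hU (QuotientGroup.quotientKerEquivOfSurjective π h.surj).symm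

/-! ### Sylow subgroups -/

section Card

variable {F : Type*} [Group F] [Finite F]

theorem two_pow_le {k n m : ℕ} (hm : Odd m) (h : 2 ^ k ∣ 2 ^ n * m) : 2 ^ k ∣ 2 ^ n := by
  have h1 : Nat.Coprime (2 ^ k) m := Nat.Coprime.pow_left k (Nat.coprime_two_left.2 hm)
  exact h1.dvd_of_dvd_mul_right h

/-- the order of a 2-subgroup -/
theorem card_dvd {H M : Subgroup F} (hM : M ≤ H) (hp : IsPGroup 2 M) {n m : ℕ} (h : Nat.card H = 2 ^ n * m)
    (hm : Odd m) : Nat.card M ∣ 2 ^ n := by
  obtain ⟨k, hk⟩ := (IsPGroup.iff_card (p := 2)).1 hp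
  rw [hk]
  refine two_pow_le hm ?_
  rw [← hk, ← h]
  exact card_dvd_of_le hM

theorem fact_eq {N n m : ℕ} (h : N = 2 ^ n * m) (hm : Odd m) : N.factorization 2 = n := by
  have h0 : m ≠ 0 := by
    rintro rfl
    simp at hm
  rw [h, Nat.factorization_mul (by positivity) h0, Finsupp.add_apply, Nat.Prime.factorization_pow Nat.prime_two,
    Finsupp.single_eq_same, Nat.factorization_eq_zero_of_not_dvd (n := m), add_zero]
  rw [← even_iff_two_dvd, Nat.not_even_iff_odd]
  exact hm

/-- a 2-subgroup of `H` of the maximal order is a Sylow subgroup -/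
theorem lin2_of_le {H M : Subgroup F} (hM : M ≤ H) (hE : Elem H) (hp : IsPGroup 2 M) {n m : ℕ}
    (h : Nat.card H = 2 ^ n * m) (hm : Odd m) (hc : 2 ^ n ≤ Nat.card M) : Lin2 M := by
  have h1 : Nat.card M = 2 ^ n := le_antisymm (Nat.le_of_dvd (by positivity) (card_dvd hM hp h hm)) hc
  have h2 : Nat.card (M.subgroupOf H) = 2 ^ (Nat.card H).factorization 2 := by
    rw [fact_eq h hm, ← h1]
    exact Nat.card_congr (subgroupOfEquivOfLe hM).toEquiv
  have h3 := hE (Sylow.ofCard _ h2)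
  rw [Sylow.coe_ofCard] at h3
  exact h3.congr (subgroupOfEquivOfLe hM)

/-- a 2-subgroup of maximal order shows `Elem` -/
theorem elem_of_le {H M : Subgroup F} (hM : M ≤ H) (hL : Lin2 M) {n m : ℕ}
    (h : Nat.card H = 2 ^ n * m) (hm : Odd m) (hc : Nat.card M = 2 ^ n) : Elem H := by
  have h2 : Nat.card (M.subgroupOf H) = 2 ^ (Nat.card H).factorization 2 := by
    rw [fact_eq h hm, ← hc]
    exact Nat.card_congr (subgroupOfEquivOfLe hM).toEquiv
  refine elem_of_sylow (Sylow.ofCard _ h2) ?_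
  rw [Sylow.coe_ofCard]
  exact hL.congr (subgroupOfEquivOfLe hM).symm

/-- 2-subgroups of `H` lie in 2-subgroups of `H` of maximal order -/
theorem exists_le {H Q : Subgroup F} (hQ : Q ≤ H) (hp : IsPGroup 2 Q) {n m : ℕ} (h : Nat.card H = 2 ^ n * m)
    (hm : Odd m) : ∃ S : Subgroup F, S ≤ H ∧ Q ≤ S ∧ IsPGroup 2 S ∧ Nat.card S = 2 ^ n := by
  have : Fact (Nat.Prime 2) := ⟨Nat.prime_two⟩
  have h1 : IsPGroup 2 (Q.subgroupOf H) := hp.comap_subtype
  obtain ⟨P, hP⟩ := h1.exists_le_sylow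
  refine ⟨(P : Subgroup H).map H.subtype, ?_, ?_, P.2.map _, ?_⟩
  · rintro _ ⟨y, -, rfl⟩
    exact y.2
  · intro q hq
    exact ⟨⟨q, hQ hq⟩, hP (mem_subgroupOf.2 hq), rfl⟩
  · rw [card_map_of_injective H.subtype_injective, Sylow.card_eq_multiplicity, fact_eq h hm]

/-- a 2-group acting by conjugation on a set of odd cardinality has a fixed point -/
theorem exists_fixed {M : Subgroup F} (hM : IsPGroup 2 M) {X : Set F} (hX : Odd X.ncard)
    (hinv : ∀ g ∈ M, ∀ x ∈ X, g * x * g⁻¹ ∈ X) : ∃ x ∈ X, ∀ g ∈ M, g * x * g⁻¹ = x := by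
  have : Fact (Nat.Prime 2) := ⟨Nat.prime_two⟩
  let _ : MulAction M X :=
    { smul := fun g x => ⟨(g : F) * x * (g : F)⁻¹, hinv g g.2 x x.2⟩
      one_smul := fun x => Subtype.ext (by
        change ((1 : M) : F) * (x : F) * ((1 : M) : F)⁻¹ = x
        rw [coe_one, one_mul, inv_one, mul_one])
      mul_smul := fun g h x => Subtype.ext (by
        change ((g * h : M) : F) * (x : F) * ((g * h : M) : F)⁻¹ = (g : F) * ((h : F) * x * (h : F)⁻¹) * (g : F)⁻¹
        rw [coe_mul]
        group) }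
  have hsm : ∀ (g : M) (x : X), ((g • x : X) : F) = (g : F) * x * (g : F)⁻¹ := fun _ _ => rfl
  have h2 : ¬ 2 ∣ Nat.card X := by
    rw [← even_iff_two_dvd, Nat.not_even_iff_odd, Nat.card_coe_set_eq]
    exact hX
  obtain ⟨x, hx⟩ := hM.nonempty_fixed_point_of_prime_not_dvd_card X h2
  refine ⟨x, x.2, fun g hg => ?_⟩
  have h3 := congrArg Subtype.val (hx ⟨g, hg⟩)
  rwa [hsm] at h3

end Card

/-! ### Index two -/

section Swap

variable {N : Type*} [Group N] [Finite N]

/-- **a subgroup of index two and an involution outside** -/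
theorem elem_swap (H : Subgroup N) (h2 : H.index = 2) (hH : Elem H) (v : N) (hv : v ∉ H) (hvv : v * v = 1) :
    Elem N := by
  have : Fact (Nat.Prime 2) := ⟨Nat.prime_two⟩
  have hn : H.Normal := normal_of_index_eq_two h2
  have hz : IsPGroup 2 (zpowers v) := by
    rw [IsPGroup.iff_card]
    have h3 : orderOf v ∣ 2 := orderOf_dvd_of_pow_eq_one (by rw [pow_two, hvv])
    rcases (Nat.dvd_prime Nat.prime_two).1 h3 with h | h
    · exact ⟨0, by rw [Nat.card_zpowers, h, pow_zero]⟩
    · exact ⟨1, by rw [Nat.card_zpowers, h, pow_one]⟩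
  obtain ⟨P, hP⟩ := hz.exists_le_sylow
  have hvP : v ∈ (P : Subgroup N) := hP (mem_zpowers v)
  refine elem_of_sylow P fun f => ?_
  have key : ∀ x : (P : Subgroup N), (x : N) ∈ H → f x ^ 2 = 1 := by
    intro x hx
    have h1 : Lin2 ((P : Subgroup N).subgroupOf H) := hH (sylowInf H P)
    let φ : ((P : Subgroup N).subgroupOf H) →* (P : Subgroup N) :=
      { toFun := fun y => ⟨((y : H) : N), mem_subgroupOf.1 y.2⟩
        map_one' := rfl
        map_mul' := fun _ _ => rfl }
    exact h1 (f.comp φ) ⟨⟨x, hx⟩, mem_subgroupOf.2 x.2⟩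
  intro x
  by_cases hx : (x : N) ∈ H
  · exact key x hx
  · have h3 : v * x ∈ H := (mul_mem_iff_of_index_two h2).2 ⟨fun h => absurd h hv, fun h => absurd h hx⟩
    have h4 := key (⟨v, hvP⟩ * x) h3
    have h5 : f ⟨v, hvP⟩ ^ 2 = 1 := sq_of_sq f (by
      rw [pow_two]
      exact Subtype.ext hvv)
    rwa [map_mul, mul_pow, h5, one_mul] at h4

end Swap

/-! ### Classes of 3-transpositions -/

/-- a conjugation invariant set of 3-transpositions -/
structure Tri {G : Type*} [Group G] (T : Set G) : Prop where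
  sq : ∀ a ∈ T, a * a = 1
  conj : ∀ g : G, ∀ a ∈ T, g * a * g⁻¹ ∈ T
  three : ∀ a ∈ T, ∀ b ∈ T, Commute a b ∨ a * b * a = b * a * b

namespace Tri

variable {G : Type*} [Group G] {T : Set G}

theorem inv (h : Tri T) {a : G} (ha : a ∈ T) : a⁻¹ = a := inv_eq_of_mul_eq_one_left (h.sq a ha)

theorem cj (h : Tri T) {a b : G} (ha : a ∈ T) (hb : b ∈ T) : a * b * a ∈ T := by
  have := h.conj a b hb
  rwa [h.inv ha] at this

theorem braid (h : Tri T) {a b : G} (ha : a ∈ T) (hb : b ∈ T) (hn : ¬ Commute a b) :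
    a * b * a = b * a * b := (h.three a ha b hb).resolve_left hn

/-- commuting with a conjugate -/
theorem comm_cj (h : Tri T) {a b c : G} (ha : a ∈ T) (hac : Commute a c) (hc : Commute (a * b * a) c) :
    Commute b c := by
  have haa := h.sq a ha
  have h1 : Commute (a * (a * b * a) * a) c := (hac.mul_left hc).mul_left hac
  have e : a * (a * b * a) * a = (a * a) * b * (a * a) := by group
  rwa [e, haa, one_mul, mul_one] at h1

/-- equal, not commuting, or with a common member not commuting with both -/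
def Rel (T : Set G) (x y : G) : Prop := x = y ∨ ¬ Commute x y ∨ ∃ w ∈ T, ¬ Commute w x ∧ ¬ Commute w y

theorem Rel.step (h : Tri T) {x y y' : G} (hy : y ∈ T) (hr : Rel T x y)
    (hn : ¬ Commute y y') : Rel T x y' := by
  rcases hr with rfl | h1 | ⟨w, hw, h1, h2⟩
  · exact Or.inr (Or.inl hn)
  · exact Or.inr (Or.inr ⟨y, hy, fun h => h1 h.symm, hn⟩)
  · by_cases h3 : Commute x y
    swap
    · exact Or.inr (Or.inr ⟨y, hy, fun h => h3 h.symm, hn⟩)
    by_cases h4 : Commute w y'
    swap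
    · exact Or.inr (Or.inr ⟨w, hw, h1, h4⟩)
    refine Or.inr (Or.inr ⟨y * w * y, h.cj hy hw, ?_, ?_⟩)
    · intro h5
      exact h1 (h.comm_cj hy h3.symm h5)
    · intro h5
      have h6 : y * w * y = w * y * w := (h.braid hw hy h2).symm
      rw [h6] at h5
      exact hn (h.comm_cj hw h4 h5)

theorem rel_step (h : Tri T) {x s y : G} (hs : s ∈ T) (hy : y ∈ T) (hr : Rel T x y) : Rel T x (s * y * s) := by
  by_cases hc : Commute s y
  · have e : s * y * s = y := by rw [hc.eq, mul_assoc, h.sq s hs, mul_one]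
    rwa [e]
  · refine Rel.step h hy hr fun h5 => hc ?_
    have h6 : s * y * s = y * s * y := h.braid hs hy hc
    rw [h6] at h5
    exact h.comm_cj hy (Commute.refl y) h5.symm

theorem rel_of_closure (h : Tri T) {x : G} {g : G} (hg : g ∈ closure T) :
    ∀ y ∈ T, Rel T x y → Rel T x (g * y * g⁻¹) := by
  have key : (∀ y ∈ T, Rel T x y → Rel T x (g * y * g⁻¹)) ∧ (∀ y ∈ T, Rel T x y → Rel T x (g⁻¹ * y * g)) := by
    induction hg using closure_induction with
    | mem s hs =>
      rw [h.inv hs]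
      exact ⟨fun y hy hr => h.rel_step hs hy hr, fun y hy hr => h.rel_step hs hy hr⟩
    | one =>
      rw [inv_one]
      exact ⟨fun y _ hr => by rwa [one_mul, mul_one], fun y _ hr => by rwa [one_mul, mul_one]⟩
    | mul a b _ _ ha hb =>
      refine ⟨fun y hy hr => ?_, fun y hy hr => ?_⟩
      · have e : a * b * y * (a * b)⁻¹ = a * (b * y * b⁻¹) * a⁻¹ := by group
        rw [e]
        exact ha.1 _ (h.conj b y hy) (hb.1 y hy hr)
      · have e : (a * b)⁻¹ * y * (a * b) = b⁻¹ * (a⁻¹ * y * a) * b := by group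
        rw [e]
        refine hb.2 _ ?_ (ha.2 y hy hr)
        have := h.conj a⁻¹ y hy
        rwa [inv_inv] at this
    | inv a _ ha =>
      rw [inv_inv]
      exact ⟨ha.2, ha.1⟩
  exact key.1

/-- the swap -/
theorem swap (h : Tri T) {d e w : G} (hd : d ∈ T) (he : e ∈ T) (hw : w ∈ T) (hde : Commute d e)
    (h1 : ¬ Commute w d) (h2 : ¬ Commute w e) :
    (w * (d * e) * w) * (w * (d * e) * w) = 1 ∧ (w * (d * e) * w) * d * (w * (d * e) * w)⁻¹ = e ∧
      (w * (d * e) * w) * e * (w * (d * e) * w)⁻¹ = d := by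
  have hww := h.sq w hw
  have hdd := h.sq d hd
  have hee := h.sq e he
  have b1 := h.braid hw hd h1
  have b2 := h.braid hw he h2
  have hv : (w * (d * e) * w) * (w * (d * e) * w) = 1 := by
    have e1 : (w * (d * e) * w) * (w * (d * e) * w) = w * (d * e) * (w * w) * (d * e) * w := by group
    have e2 : w * (d * e) * (w * w) * (d * e) * w = w * (d * (e * d) * e) * w := by rw [hww]; group
    have e3 : w * (d * (e * d) * e) * w = w * ((d * d) * (e * e)) * w := by rw [← hde.eq]; group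
    rw [e1, e2, e3, hdd, hee, one_mul, mul_one, hww]
  have hvi : (w * (d * e) * w)⁻¹ = w * (d * e) * w := inv_eq_of_mul_eq_one_left hv
  have key : ∀ x y : G, x * x = 1 → y * y = 1 → Commute x y → w * x * w = x * w * x → w * y * w = y * w * y →
      (w * (x * y) * w) * x * (w * (x * y) * w) = y := by
    intro x y hxx hyy hxy bx bY
    calc (w * (x * y) * w) * x * (w * (x * y) * w) = w * (x * y) * (w * x * w) * (x * y) * w := by group
      _ = w * (x * y) * (x * w * x) * (x * y) * w := by rw [bx]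
      _ = w * (x * (y * x) * w * (x * x) * y) * w := by group
      _ = w * (x * (x * y) * w * y) * w := by rw [hxx, mul_one, hxy.eq]
      _ = w * ((x * x) * (y * w * y)) * w := by group
      _ = w * (w * y * w) * w := by rw [hxx, one_mul, bY]
      _ = (w * w) * y * (w * w) := by group
      _ = y := by rw [hww, one_mul, mul_one]
  refine ⟨hv, ?_, ?_⟩
  · rw [hvi]
    exact key d e hdd hee hde b1 b2
  · rw [hvi, hde.eq]
    exact key e d hee hdd hde.symm b2 b1

end Tri

/-- `g` preserves the pair `{d, e}` -/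
def pairStab {G : Type*} [Group G] (d e : G) : Subgroup G where
  carrier := {g | (g * d * g⁻¹ = d ∧ g * e * g⁻¹ = e) ∨ (g * d * g⁻¹ = e ∧ g * e * g⁻¹ = d)}
  one_mem' := Or.inl ⟨by group, by group⟩
  mul_mem' := by
    have key : ∀ g k x y z : G, k * x * k⁻¹ = y → g * y * g⁻¹ = z → g * k * x * (g * k)⁻¹ = z := by
      intro g k x y z h1 h2
      rw [← h2, ← h1]; group
    rintro g k (⟨g1, g2⟩ | ⟨g1, g2⟩) (⟨k1, k2⟩ | ⟨k1, k2⟩)
    · exact Or.inl ⟨key _ _ _ _ _ k1 g1, key _ _ _ _ _ k2 g2⟩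
    · exact Or.inr ⟨key _ _ _ _ _ k1 g2, key _ _ _ _ _ k2 g1⟩
    · exact Or.inr ⟨key _ _ _ _ _ k1 g1, key _ _ _ _ _ k2 g2⟩
    · exact Or.inl ⟨key _ _ _ _ _ k1 g2, key _ _ _ _ _ k2 g1⟩
  inv_mem' := by
    have key : ∀ g x y : G, g * x * g⁻¹ = y → g⁻¹ * y * g⁻¹⁻¹ = x := by
      intro g x y h1
      rw [← h1]; group
    rintro g (⟨g1, g2⟩ | ⟨g1, g2⟩)
    · exact Or.inl ⟨key _ _ _ g1, key _ _ _ g2⟩
    · exact Or.inr ⟨key _ _ _ g2, key _ _ _ g1⟩

theorem mem_pairStab {G : Type*} [Group G] {d e g : G} : g ∈ pairStab d e ↔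
    (g * d * g⁻¹ = d ∧ g * e * g⁻¹ = e) ∨ (g * d * g⁻¹ = e ∧ g * e * g⁻¹ = d) := Iff.rfl

/-- **a group generated by a class of `2 mod 4` 3-transpositions** -/
theorem elem_of_three {G : Type*} [Group G] [Finite G] {T : Set G} (h : Tri T) {d : G} (hd : d ∈ T)
    (htr : ∀ x ∈ T, ∃ g, g * d * g⁻¹ = x) (hgen : closure T = ⊤) {n m k : ℕ} (hcard : T.ncard = 2 * k)
    (hk : Odd k) (hG : Nat.card G = 2 ^ (n + 1) * m) (hm : Odd m)
    (hE : Elem (centralizer ({d} : Set G))) : Elem G := by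
  classical
  have hct : ∀ t ∈ T, Nat.card G = T.ncard * Nat.card (centralizer ({t} : Set G)) := by
    intro t ht
    have h1 := orb ⊤ t T (by
      intro y
      constructor
      · intro hy
        obtain ⟨g, hg⟩ := htr t ht
        obtain ⟨g', hg'⟩ := htr y hy
        refine ⟨g' * g⁻¹, mem_top _, ?_⟩
        rw [← hg', ← hg]; group
      · rintro ⟨g, -, rfl⟩
        exact h.conj g t ht)
    rw [top_inf_eq] at h1
    rw [← h1]
    exact (Subgroup.card_top).symm
  -- the order of the centralizers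
  have hCt : ∀ t ∈ T, ∃ c, Odd c ∧ Nat.card (centralizer ({t} : Set G)) = 2 ^ n * c := by
    intro t ht
    obtain ⟨j, c, hc, hj⟩ := Nat.exists_eq_two_pow_mul_odd
      (n := Nat.card (centralizer ({t} : Set G))) Nat.card_pos.ne'
    have h1 := hct t ht
    rw [hcard, hj] at h1
    have h2 : Nat.card G = 2 ^ (j + 1) * (k * c) := by rw [h1]; ring
    have h3 := fact_eq h2 (hk.mul hc)
    rw [fact_eq hG hm] at h3
    have h4 : j = n := by omega
    subst h4
    exact ⟨c, hc, hj⟩
  set C := centralizer ({d} : Set G) with hC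
  obtain ⟨c, hc, hCc⟩ := hCt d hd
  have hbot : IsPGroup 2 (⊥ : Subgroup G) := IsPGroup.of_bot
  obtain ⟨S0, hS0, -, hS0p, hS0c⟩ := exists_le (H := C) bot_le hbot hCc hc
  obtain ⟨P, -, hSP, hPp, hPc⟩ := exists_le (H := (⊤ : Subgroup G)) le_top hS0p (by rw [Subgroup.card_top]; exact hG) hm
  have hPC : Nat.card ↥(P ⊓ C) = 2 ^ n := by
    refine Nat.dvd_antisymm (card_dvd inf_le_right (hPp.to_le inf_le_left) hCc hc) ?_
    rw [← hS0c]
    exact card_dvd_of_le (le_inf hSP hS0)
  set O : Set G := {y | ∃ g ∈ P, g * d * g⁻¹ = y} with hO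
  have hOc : O.ncard = 2 := by
    have h1 := orb P d O (fun y => Iff.rfl)
    rw [hPc, hPC, pow_succ, mul_comm (2 ^ n) 2] at h1
    exact (Nat.eq_of_mul_eq_mul_right (by positivity) h1).symm
  have hdO : d ∈ O := ⟨1, P.one_mem, by group⟩
  obtain ⟨e, hne, hOe⟩ : ∃ e, d ≠ e ∧ O = {d, e} := by
    obtain ⟨x, y, hxy, hOxy⟩ := Set.ncard_eq_two.1 hOc
    rw [hOxy] at hdO
    rcases hdO with h1 | h1
    · subst h1
      exact ⟨y, hxy, hOxy⟩
    · have h1 : d = y := h1
      subst h1
      exact ⟨x, hxy.symm, by rw [hOxy, Set.pair_comm]⟩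
  have heO : e ∈ O := by rw [hOe]; exact Or.inr rfl
  obtain ⟨p, hp, hpe⟩ := heO
  have heT : e ∈ T := by rw [← hpe]; exact h.conj p d hd
  have hPN : P ≤ pairStab d e := by
    intro g hg
    have h1 : g * d * g⁻¹ ∈ O := ⟨g, hg, rfl⟩
    have h2 : g * e * g⁻¹ ∈ O := ⟨g * p, P.mul_mem hg hp, by rw [← hpe]; group⟩
    rw [hOe] at h1 h2
    have h3 : g * d * g⁻¹ ≠ g * e * g⁻¹ := fun h3 => hne (mul_left_cancel (mul_right_cancel h3))
    rcases h1 with h1 | h1
    · rcases h2 with h2 | h2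
      · exact absurd (h1.trans h2.symm) h3
      · exact Or.inl ⟨h1, h2⟩
    · rcases h2 with h2 | h2
      · exact Or.inr ⟨h1, h2⟩
      · exact absurd (h1.trans h2.symm) h3
  -- `d` and `e` commute
  have hde : Commute d e := by
    by_contra hcon
    have hb := h.braid hd heT hcon
    have ht : d * e * d ∈ T := h.cj hd heT
    obtain ⟨c', hc', hCc'⟩ := hCt _ ht
    have h1 : P ≤ centralizer ({d * e * d} : Set G) := by
      intro g hg
      rw [mem_centralizer_singleton_iff, ← mul_inv_eq_iff_eq_mul]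
      have e1 : g * (d * e * d) * g⁻¹ = (g * d * g⁻¹) * (g * e * g⁻¹) * (g * d * g⁻¹) := by group
      rw [e1]
      rcases hPN hg with ⟨g1, g2⟩ | ⟨g1, g2⟩
      · rw [g1, g2]
      · rw [g1, g2, hb]
    have h2 := card_dvd h1 hPp hCc' hc'
    rw [hPc] at h2
    have h3 := Nat.le_of_dvd (by positivity) h2
    have h4 : 2 ^ n < 2 ^ (n + 1) := Nat.pow_lt_pow_right (by norm_num) (by omega)
    omega
  obtain ⟨w, hw, hw1, hw2⟩ : ∃ w ∈ T, ¬ Commute w d ∧ ¬ Commute w e := by
    have h1 := h.rel_of_closure (x := d) (g := p) (by rw [hgen]; trivial) d hd (Or.inl rfl)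
    rw [hpe] at h1
    rcases h1 with h1 | h1 | h1
    · exact absurd h1 hne
    · exact absurd hde h1
    · exact h1
  obtain ⟨hvv, hv1, hv2⟩ := h.swap hd heT hw hde hw1 hw2
  set v := w * (d * e) * w with hv
  -- the stabilizer of the pair
  set N := pairStab d e with hN
  have hNodd : Odd N.index := by
    have h1 := P.card_mul_index
    rw [hPc, hG] at h1
    have h2 : P.index = m := Nat.eq_of_mul_eq_mul_left (by positivity) h1
    exact Odd.of_dvd_nat hm (h2 ▸ index_dvd_of_le hPN)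
  have hNC : Nat.card N = 2 * Nat.card ↥(N ⊓ C) := by
    have h1 := orb N d {d, e} (by
      intro y
      constructor
      · rintro (rfl | rfl)
        · exact ⟨1, N.one_mem, by group⟩
        · exact ⟨v, Or.inr ⟨hv1, hv2⟩, hv1⟩
      · rintro ⟨g, hg, rfl⟩
        rcases hg with ⟨g1, -⟩ | ⟨g1, -⟩
        · exact Or.inl g1
        · exact Or.inr g1)
    rwa [Set.ncard_pair hne] at h1
  have hidx : (C.subgroupOf N).index = 2 := by
    have h1 := (C.subgroupOf N).card_mul_index
    have h2 : Nat.card (C.subgroupOf N) = Nat.card ↥(N ⊓ C) := by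
      rw [← inf_subgroupOf_left]
      exact Nat.card_congr (subgroupOfEquivOfLe inf_le_left).toEquiv
    rw [h2, hNC, mul_comm] at h1
    exact Nat.eq_of_mul_eq_mul_right Nat.card_pos h1
  have hL : Lin2 ↥(P ⊓ C) := lin2_of_le inf_le_right hE (hPp.to_le inf_le_left) hCc hc hPC.ge
  have hE2 : Elem ↥(N ⊓ C) := by
    obtain ⟨c3, hc3⟩ : 2 ^ n ∣ Nat.card ↥(N ⊓ C) := by
      rw [← hPC]
      exact card_dvd_of_le (inf_le_inf_right _ hPN)
    have h1 : Nat.card ↥(N ⊓ C) ∣ Nat.card C := card_dvd_of_le inf_le_right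
    rw [hc3, hCc] at h1
    have h2 : c3 ∣ c := Nat.dvd_of_mul_dvd_mul_left (by positivity) h1
    exact elem_of_le (inf_le_inf_right _ hPN) hL hc3 (Odd.of_dvd_nat hc h2) hPC
  have hE3 : Elem (C.subgroupOf N) := by
    rw [← inf_subgroupOf_left]
    exact Elem.congr hE2 (subgroupOfEquivOfLe inf_le_left).symm
  refine elem_of_odd_index N hNodd (elem_swap (C.subgroupOf N) hidx hE3 ⟨v, Or.inr ⟨hv1, hv2⟩⟩ ?_ ?_)
  · intro h1
    have h2 : v ∈ C := mem_subgroupOf.1 h1
    have h3 := mem_centralizer_singleton_iff.1 h2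
    rw [← mul_inv_eq_iff_eq_mul, hv1] at h3
    exact hne h3.symm
  · exact Subtype.ext hvv

end Cfsg.Agent.H559.Sd
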